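import Groth.Agent.PerfHom.Koszul
import Groth.Agent.KoszulExt.Homology
import Groth.Agent.MatlisDual.Completion
import Groth.Agent.DRingTorAmp.Triangle
import Groth.Agent.DRingKProj.TopHomology
import Groth.Prelude.Def_KZero
import Mathlib.RingTheory.Length
import Mathlib.RingTheory.Support

/-!
# `K₀` of perfect complexes supported at the closed point
-/

universe u

open CategoryTheory Limits Pretriangulated
open scoped ZeroObject

namespace Groth.Agent.KZeroLocal

attribute [local instance] HasDerivedCategory.standard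

set_option linter.style.haveILetI false

variable {R : Type u} [CommRing R] [IsNoetherianRing R] [IsLocalRing R]

/-- Perfect and supported at the closed point. -/
abbrev Supp : ObjectProperty (Dual.D R) := fun K =>
  DRing.IsPerfect R K ∧ ∀ i : ℤ, Module.support R (Dual.HD R K i) ⊆ {IsLocalRing.closedPoint R}

theorem isFiniteLength_of_support (M : Type u) [AddCommGroup M] [Module R M] [Module.Finite R M]
    (h : Module.support R M ⊆ {IsLocalRing.closedPoint R}) : IsFiniteLength R M := by
  have hle : IsLocalRing.maximalIdeal R ≤ (Module.annihilator R M).radical := by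
    rw [Ideal.radical_eq_sInf]
    refine le_sInf fun J hJ => ?_
    have hmem : (⟨J, hJ.2⟩ : PrimeSpectrum R) ∈ Module.support R M := by
      rw [Module.support_eq_zeroLocus]
      exact hJ.1
    exact (congrArg PrimeSpectrum.asIdeal (h hmem)).ge
  obtain ⟨k, hk⟩ := Ideal.exists_pow_le_of_le_radical_of_fg hle (IsNoetherian.noetherian _)
  obtain ⟨n, g, hg⟩ := Module.Finite.exists_fin' R M
  let I := IsLocalRing.maximalIdeal R ^ k
  haveI hI := MatlisDual.isFiniteLength_quotient_pow (R := R) k
  obtain ⟨_, _⟩ := isFiniteLength_iff_isNoetherian_isArtinian.1 hI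
  let e : Fin n → (R ⧸ I) →ₗ[R] M := fun j => Submodule.liftQ I
    (LinearMap.toSpanSingleton R M (g (Pi.single j 1))) fun r hr => by
      show r • g (Pi.single j 1) = 0
      exact Module.mem_annihilator.1 (hk hr) _
  let q : (Fin n → R ⧸ I) →ₗ[R] M := LinearMap.lsum R (fun _ : Fin n => R ⧸ I) R e
  refine IsFiniteLength.of_surjective (f := q)
    (isFiniteLength_iff_isNoetherian_isArtinian.2 ⟨inferInstance, inferInstance⟩) fun m => ?_
  obtain ⟨x, rfl⟩ := hg m
  refine ⟨fun j => Submodule.Quotient.mk (x j), ?_⟩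
  calc q (fun j => Submodule.Quotient.mk (x j)) = ∑ j, x j • g (Pi.single j 1) := by
        simp [q, e, LinearMap.lsum_apply]
        rfl
    _ = g (∑ j, x j • Pi.single j 1) := by simp [map_sum]
    _ = g x := by
        congr 1
        funext i
        simp [Finset.sum_apply, Pi.single_apply]

theorem exists_surjective_residue (M : Type u) [AddCommGroup M] [Module R M] [Module.Finite R M] [Nontrivial M] :
    ∃ θ : M →ₗ[R] R ⧸ IsLocalRing.maximalIdeal R, Function.Surjective θ := by
  obtain ⟨N, hN, -⟩ := (IsCoatomic.eq_top_or_exists_le_coatom (⊥ : Submodule R M)).resolve_left bot_ne_top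
  haveI : IsSimpleModule R (M ⧸ N) := isSimpleModule_iff_isCoatom.2 hN
  obtain ⟨J, hJ, ⟨e⟩⟩ := (isSimpleModule_iff_quot_maximal (R := R) (M := M ⧸ N)).1 inferInstance
  obtain rfl := IsLocalRing.eq_maximalIdeal hJ
  exact ⟨e.toLinearMap ∘ₗ N.mkQ, e.surjective.comp (Submodule.mkQ_surjective N)⟩

variable (R) in
/-- The residue field. -/
noncomputable abbrev kMod : ModuleCat.{u} R := ModuleCat.of R (R ⧸ IsLocalRing.maximalIdeal R)

/-- A map to the shifted residue field which is surjective in top degree. -/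
theorem exists_top_map (K : Dual.D R) (n : ℤ) (hle : ∀ i, n < i → Subsingleton (Dual.HD R K i))
    [Module.Finite R (Dual.HD R K n)] [Nontrivial (Dual.HD R K n)] :
    ∃ q : K ⟶ (DerivedCategory.singleFunctor (ModuleCat.{u} R) n).obj (kMod R),
      Epi ((DerivedCategory.homologyFunctor (ModuleCat.{u} R) n).map q) := by
  haveI : K.IsLE n := (DerivedCategory.isLE_iff K n).2 fun i hi => by
    haveI := hle i hi
    exact ModuleCat.isZero_of_subsingleton _
  obtain ⟨E, _, ⟨eE⟩⟩ := K.exists_iso_Q_obj_of_isLE n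
  have hd : E.d n (n + 1) = 0 := (E.isZero_of_isStrictlyLE n (n + 1) (by omega)).eq_of_tgt _ _
  haveI := E.isIso_iCycles n (n + 1) (by simp) hd
  let e : (DerivedCategory.homologyFunctor (ModuleCat.{u} R) n).obj K ≅ E.homology n :=
    (DerivedCategory.homologyFunctor (ModuleCat.{u} R) n).mapIso eE ≪≫
      (DerivedCategory.homologyFunctorFactors (ModuleCat.{u} R) n).app E
  obtain ⟨θ, hθ⟩ := exists_surjective_residue (R := R) (Dual.HD R K n)
  let θ' : E.homology n ⟶ kMod R := e.inv ≫ ModuleCat.ofHom θ
  haveI : Epi (ModuleCat.ofHom θ : (DerivedCategory.homologyFunctor (ModuleCat.{u} R) n).obj K ⟶ kMod R) :=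
    (ModuleCat.epi_iff_surjective _).2 hθ
  haveI : Epi θ' := epi_comp _ _
  let φ : E.X n ⟶ kMod R := inv (E.iCycles n) ≫ E.homologyπ n ≫ θ'
  let χ : E ⟶ (HomologicalComplex.single (ModuleCat.{u} R) (ComplexShape.up ℤ) n).obj (kMod R) :=
    HomologicalComplex.mkHomToSingle φ fun i hi => by
      show E.d i n ≫ inv (E.iCycles n) ≫ E.homologyπ n ≫ θ' = 0
      rw [← E.toCycles_i i n, Category.assoc, IsIso.hom_inv_id_assoc, ← Category.assoc, E.toCycles_comp_homologyπ, zero_comp]
  haveI : Epi (χ.f n) := by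
    rw [HomologicalComplex.mkHomToSingle_f]
    infer_instance
  haveI : Mono (((HomologicalComplex.single (ModuleCat.{u} R) (ComplexShape.up ℤ) n).obj (kMod R)).iCycles n) :=
    inferInstance
  haveI : IsIso (((HomologicalComplex.single (ModuleCat.{u} R) (ComplexShape.up ℤ) n).obj (kMod R)).iCycles n) :=
    HomologicalComplex.isIso_iCycles _ n (n + 1) (by simp)
      ((HomologicalComplex.isZero_single_obj_X (ComplexShape.up ℤ) n (kMod R) (n + 1) (by omega)).eq_of_tgt _ _)
  haveI : Epi (HomologicalComplex.cyclesMap χ n) := by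
    have h : HomologicalComplex.cyclesMap χ n =
        (E.iCycles n ≫ χ.f n) ≫ inv (((HomologicalComplex.single (ModuleCat.{u} R) (ComplexShape.up ℤ) n).obj (kMod R)).iCycles n) := by
      rw [← HomologicalComplex.cyclesMap_i, Category.assoc, IsIso.hom_inv_id, Category.comp_id]
    rw [h]
    infer_instance
  haveI : Epi (HomologicalComplex.homologyMap χ n) := by
    haveI : Epi (E.homologyπ n ≫ HomologicalComplex.homologyMap χ n) := by
      rw [HomologicalComplex.homologyπ_naturality]
      infer_instance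
    exact epi_of_epi (E.homologyπ n) _
  haveI : Epi ((DerivedCategory.homologyFunctor (ModuleCat.{u} R) n).map (DerivedCategory.Q.map χ)) := by
    have h : (DerivedCategory.homologyFunctor (ModuleCat.{u} R) n).map (DerivedCategory.Q.map χ) =
        (DerivedCategory.homologyFunctorFactors (ModuleCat.{u} R) n).hom.app E ≫ HomologicalComplex.homologyMap χ n ≫
          (DerivedCategory.homologyFunctorFactors (ModuleCat.{u} R) n).inv.app _ := by
      refine Eq.trans ?_ (DerivedCategory.homologyFunctorFactors_hom_naturality_assoc χ n _)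
      rw [Iso.hom_inv_id_app]
      exact (Category.comp_id _).symm
    rw [h]
    exact epi_comp' inferInstance (epi_comp' ‹Epi (HomologicalComplex.homologyMap χ n)›
      (show Epi ((DerivedCategory.homologyFunctorFactors (ModuleCat.{u} R) n).app _).inv from inferInstance))
  refine ⟨eE.hom ≫ DerivedCategory.Q.map χ, ?_⟩
  show Epi ((DerivedCategory.homologyFunctor (ModuleCat.{u} R) n).map (eE.hom ≫ DerivedCategory.Q.map χ))
  rw [Functor.map_comp]
  exact epi_comp _ _

section K0

variable (H : AddSubgroup (KZero.K0tr (Supp (R := R))))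

/-- Objects with class in `H`. -/
abbrev InH : ObjectProperty (Dual.D R) := fun X => Supp X ∧ KZero.clTr Supp X ∈ H

omit [IsNoetherianRing R] in
theorem cl_triangle {T : Triangle (Dual.D R)} (hT : T ∈ distTriang _) (h1 : Supp T.obj₁) (h2 : Supp T.obj₂)
    (h3 : Supp T.obj₃) : KZero.clTr Supp T.obj₂ = KZero.clTr Supp T.obj₁ + KZero.clTr Supp T.obj₃ := by
  rw [KZero.clTr, KZero.clTr, KZero.clTr, dif_pos h1, dif_pos h2, dif_pos h3, ← sub_eq_zero, ← sub_sub]
  exact (QuotientAddGroup.eq_zero_iff _).2 (AddSubgroup.subset_closure ⟨T, h1, h2, h3, hT, rfl⟩)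

omit [IsNoetherianRing R] in
theorem subsingleton_HD_of_isZero {Z : Dual.D R} (hZ : IsZero Z) (i : ℤ) : Subsingleton (Dual.HD R Z i) :=
  ModuleCat.subsingleton_of_isZero (Functor.map_isZero (DerivedCategory.homologyFunctor (ModuleCat.{u} R) i) hZ)

omit [IsNoetherianRing R] in
theorem supp_iso {X Y : Dual.D R} (e : X ≅ Y) (h : Supp X) : Supp Y := by
  refine ⟨PerfHom.isPerfect_of_iso e h.1, fun i => ?_⟩
  exact (Module.support_subset_of_injective
    ((DerivedCategory.homologyFunctor (ModuleCat.{u} R) i).mapIso e).toLinearEquiv.symm.toLinearMap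
    ((DerivedCategory.homologyFunctor (ModuleCat.{u} R) i).mapIso e).toLinearEquiv.symm.injective).trans (h.2 i)

theorem supp_zero {Z : Dual.D R} (hZ : IsZero Z) {X : Dual.D R} (hX : Supp X) : Supp Z := by
  have h := DRingTorAmp.isPerfect_obj₃ (contractibleTriangle X) (contractible_distinguished X) hX.1 hX.1
  refine ⟨PerfHom.isPerfect_of_iso ((isZero_zero _).iso hZ) h, fun i => ?_⟩
  haveI := subsingleton_HD_of_isZero hZ i
  rw [Module.support_eq_empty]
  exact Set.empty_subset _

theorem inH_zero {Z : Dual.D R} (hZ : IsZero Z) {X : Dual.D R} (hX : Supp X) : InH H Z := by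
  have h0 := supp_zero hZ hX
  refine ⟨h0, ?_⟩
  have e := cl_triangle (T := Triangle.mk (𝟙 Z) (0 : Z ⟶ Z) 0)
    (isomorphic_distinguished _ (contractible_distinguished Z) _ (Triangle.isoMk _ _ (Iso.refl _) (Iso.refl _)
      (hZ.iso (isZero_zero _)) (Category.id_comp _).symm ((isZero_zero _).eq_of_tgt _ _) (hZ.eq_of_src _ _))) h0 h0 h0
  change KZero.clTr Supp Z = KZero.clTr Supp Z + KZero.clTr Supp Z at e
  rw [left_eq_add.1 e]
  exact H.zero_mem

theorem inH_obj₂ {T : Triangle (Dual.D R)} (hT : T ∈ distTriang _) (h1 : InH H T.obj₁) (h2 : Supp T.obj₂)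
    (h3 : InH H T.obj₃) : InH H T.obj₂ :=
  ⟨h2, by rw [cl_triangle hT h1.1 h2 h3.1]; exact H.add_mem h1.2 h3.2⟩

theorem inH_iso {X Y : Dual.D R} (e : X ≅ Y) (h : InH H X) : InH H Y :=
  inH_obj₂ H (T := Triangle.mk e.hom (0 : Y ⟶ 0) 0)
    (isomorphic_distinguished _ (contractible_distinguished X) _ (Triangle.isoMk _ _ (Iso.refl _) e.symm (Iso.refl _)
      (e.hom_inv_id.trans (Category.id_comp _).symm) ((isZero_zero _).eq_of_tgt _ _) ((isZero_zero _).eq_of_src _ _))) h (supp_iso e h.1) (inH_zero H (isZero_zero _) h.1)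

theorem supp_shift {X : Dual.D R} (h : Supp X) (n : ℤ) : Supp (X⟦n⟧) := by
  have hstep : ∀ {Y : Dual.D R}, Supp Y → Supp (Y⟦(1 : ℤ)⟧) ∧ Supp (Y⟦(-1 : ℤ)⟧) := fun {Y} hY => by
    have hz := supp_zero (isZero_zero (Dual.D R)) hY
    have hsup : ∀ m : ℤ, ∀ i, Module.support R (Dual.HD R (Y⟦m⟧) i) ⊆ {IsLocalRing.closedPoint R} := fun m i => by
      let e := (DRingKProj.homologyShiftIso m i (m + i) rfl Y).toLinearEquiv
      exact (Module.support_subset_of_injective e.toLinearMap e.injective).trans (hY.2 (m + i))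
    exact ⟨⟨DRingTorAmp.isPerfect_obj₃ _ (rot_of_distTriang _ (contractible_distinguished Y)) hY.1 hz.1, hsup 1⟩,
      ⟨DRingTorAmp.isPerfect_obj₁ _ (inv_rot_of_distTriang _ (contractible_distinguished₁ Y)) hz.1 hY.1, hsup (-1)⟩⟩
  induction n using Int.induction_on with
  | zero => exact supp_iso ((shiftFunctorZero (Dual.D R) ℤ).app X).symm h
  | succ k ih => exact supp_iso ((shiftFunctorAdd' (Dual.D R) (k : ℤ) 1 ((k : ℤ) + 1) rfl).app X).symm (hstep ih).1
  | pred k ih =>
    exact supp_iso ((shiftFunctorAdd' (Dual.D R) (-(k : ℤ)) (-1) (-(k : ℤ) - 1) (by omega)).app X).symm (hstep ih).2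

theorem inH_shift {X : Dual.D R} (h : InH H X) (n : ℤ) : InH H (X⟦n⟧) := by
  have hs : ∀ {Y : Dual.D R}, Supp Y → (InH H Y ↔ InH H (Y⟦(1 : ℤ)⟧)) := fun {Y} hY => by
    have hz := inH_zero H (isZero_zero (Dual.D R)) hY
    have e := cl_triangle (rot_of_distTriang _ (contractible_distinguished Y)) hY hz.1 (supp_shift hY 1)
    change KZero.clTr Supp (0 : Dual.D R) = KZero.clTr Supp Y + KZero.clTr Supp (Y⟦(1 : ℤ)⟧) at e
    constructor
    · intro hh
      refine ⟨supp_shift hY 1, ?_⟩
      have := H.sub_mem hz.2 hh.2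
      rwa [e, add_sub_cancel_left] at this
    · intro hh
      refine ⟨hY, ?_⟩
      have := H.sub_mem hz.2 hh.2
      rwa [e, add_sub_cancel_right] at this
  induction n using Int.induction_on with
  | zero => exact inH_iso H ((shiftFunctorZero (Dual.D R) ℤ).app X).symm h
  | succ k ih => exact inH_iso H ((shiftFunctorAdd' (Dual.D R) (k : ℤ) 1 ((k : ℤ) + 1) rfl).app X).symm ((hs ih.1).1 ih)
  | pred k ih =>
    exact (hs (supp_shift h.1 (-(k : ℤ) - 1))).2
      (inH_iso H ((shiftFunctorAdd' (Dual.D R) (-(k : ℤ) - 1) 1 (-(k : ℤ)) (by omega)).app X) ih)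

theorem finite_HD {K : Dual.D R} (h : DRing.IsPerfect R K) (i : ℤ) : Module.Finite R (Dual.HD R K i) := by
  obtain ⟨E, a, b, -, hE, ⟨e⟩⟩ := h
  let S := E.sc' (i - 1) i (i + 1)
  let f : (DerivedCategory.homologyFunctor (ModuleCat.{u} R) i).obj K ≅ S.moduleCatLeftHomologyData.H :=
    (DerivedCategory.homologyFunctor (ModuleCat.{u} R) i).mapIso e.symm ≪≫
      (DerivedCategory.homologyFunctorFactors (ModuleCat.{u} R) i).app E ≪≫
      E.homologyIsoSc' (i - 1) i (i + 1) (by simp) (by simp) ≪≫ S.moduleCatHomologyIso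
  haveI : Module.Finite R S.X₂ := (hE i).1
  haveI : IsNoetherian R S.X₂ := isNoetherian_of_isNoetherianRing_of_finite R S.X₂
  haveI : Module.Finite R S.moduleCatLeftHomologyData.H := by
    show Module.Finite R (LinearMap.ker S.g.hom ⧸ LinearMap.range S.moduleCatToCycles)
    infer_instance
  exact Module.Finite.equiv f.toLinearEquiv.symm

theorem inH_of_window (hk : ∀ n : ℤ, InH H ((DerivedCategory.singleFunctor (ModuleCat.{u} R) n).obj (kMod R))) :
    ∀ (c : ℕ) (a b : ℤ) (K : Dual.D R), Supp K → (∀ i, (i < a ∨ b < i) → Subsingleton (Dual.HD R K i)) →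
      ∑ i ∈ Finset.Icc a b, (Module.length R (Dual.HD R K i)).toNat ≤ c → InH H K := by
  intro c
  induction c with
  | zero =>
    intro a b K hK hab hc
    have hz : ∀ i, Subsingleton (Dual.HD R K i) := fun i => by
      by_cases hi : i < a ∨ b < i
      · exact hab i hi
      haveI := finite_HD hK.1 i
      have h1 := (Finset.sum_eq_zero_iff.1 (Nat.le_zero.1 hc)) i (Finset.mem_Icc.2 (by omega))
      exact Module.length_eq_zero_iff.1
        ((ENat.toNat_eq_zero.1 h1).resolve_right (Module.length_ne_top_iff.2 (isFiniteLength_of_support _ (hK.2 i))))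
    have : IsIso (0 : K ⟶ (0 : Dual.D R)) := (DerivedCategory.isIso_iff _ _).2 fun i => by
      haveI := hz i
      haveI := subsingleton_HD_of_isZero (isZero_zero (Dual.D R)) i
      exact (ConcreteCategory.isIso_iff_bijective _).2 ⟨fun x y _ => Subsingleton.elim (α := Dual.HD R K i) x y,
        fun y => ⟨0, Subsingleton.elim (α := Dual.HD R (0 : Dual.D R) i) _ y⟩⟩
    exact inH_iso H (asIso (0 : K ⟶ (0 : Dual.D R))).symm (inH_zero H (isZero_zero _) hK)
  | succ c ih =>
    intro a b K hK hab hc
    by_cases hsmall : ∑ i ∈ Finset.Icc a b, (Module.length R (Dual.HD R K i)).toNat ≤ c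
    · exact ih a b K hK hab hsmall
    classical
    let S := (Finset.Icc a b).filter fun i => Nontrivial (Dual.HD R K i)
    have hS : S.Nonempty := by
      by_contra hS
      refine hsmall ((Finset.sum_eq_zero fun i hi => ?_).trans_le (Nat.zero_le c))
      haveI : Subsingleton (Dual.HD R K i) := not_nontrivial_iff_subsingleton.1 fun h =>
        hS ⟨i, Finset.mem_filter.2 ⟨hi, h⟩⟩
      rw [Module.length_eq_zero]
      rfl
    let n := S.max' hS
    obtain ⟨hn, hnt⟩ := Finset.mem_filter.1 (S.max'_mem hS)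
    haveI : Nontrivial (Dual.HD R K n) := hnt
    haveI := finite_HD hK.1 n
    obtain ⟨q, hq⟩ := exists_top_map K n fun i hi => by
      by_cases h : i ≤ b
      · refine not_nontrivial_iff_subsingleton.1 fun hi' => ?_
        have := S.le_max' i (Finset.mem_filter.2 ⟨Finset.mem_Icc.2 ⟨by have := (Finset.mem_Icc.1 hn).1; omega, h⟩, hi'⟩)
        omega
      · exact hab i (Or.inr (by omega))
    let k₀ := (DerivedCategory.singleFunctor (ModuleCat.{u} R) n).obj (kMod R)
    obtain ⟨C, g, h, hT₀⟩ := distinguished_cocone_triangle q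
    let T := (Triangle.mk q g h).invRotate
    have hT : T ∈ distTriang _ := inv_rot_of_distTriang _ hT₀
    have hk0 : ∀ i, i ≠ n → IsZero ((DerivedCategory.homologyFunctor (ModuleCat.{u} R) i).obj k₀) := fun i hi =>
      (HomologicalComplex.isZero_single_obj_homology (ComplexShape.up ℤ) n (kMod R) i hi).of_iso
        ((DerivedCategory.homologyFunctorFactors (ModuleCat.{u} R) i).app _)
    have hmono : ∀ i, Mono ((DerivedCategory.homologyFunctor (ModuleCat.{u} R) i).map T.mor₁) := fun i => by
      refine (DerivedCategory.HomologySequence.mono_homologyMap_mor₁_iff _ hT (i - 1) i (by omega)).2 ?_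
      by_cases hi : i - 1 = n
      · refine (DerivedCategory.HomologySequence.epi_homologyMap_mor₂_iff _ hT (i - 1) i (by omega)).1 ?_
        rw [hi]
        exact hq
      · exact (hk0 (i - 1) hi).eq_of_src _ _
    have hinj : ∀ i, Function.Injective ((DerivedCategory.homologyFunctor (ModuleCat.{u} R) i).map T.mor₁).hom :=
      fun i => (ModuleCat.mono_iff_injective _).1 (hmono i)
    have hL : Supp T.obj₁ := ⟨DRingTorAmp.isPerfect_obj₁ T hT hK.1 (hk n).1.1, fun i =>
      (Module.support_subset_of_injective _ (hinj i)).trans (hK.2 i)⟩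
    change n ∈ Finset.Icc a b at hn
    have hsum : ∑ i ∈ Finset.Icc a b, (Module.length R (Dual.HD R T.obj₁ i)).toNat + 1 ≤
        ∑ i ∈ Finset.Icc a b, (Module.length R (Dual.HD R K i)).toNat := by
      rw [Finset.sum_eq_add_sum_sdiff_singleton_of_mem hn, Finset.sum_eq_add_sum_sdiff_singleton_of_mem hn]
      clear hc hsmall
      have hle : ∀ i, (Module.length R (Dual.HD R T.obj₁ i)).toNat ≤ (Module.length R (Dual.HD R K i)).toNat := fun i => by
        haveI := finite_HD hK.1 i
        exact ENat.toNat_le_toNat (Module.length_le_of_injective _ (hinj i))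
          (Module.length_ne_top_iff.2 (isFiniteLength_of_support _ (hK.2 i)))
      have hlt : (Module.length R (Dual.HD R T.obj₁ n)).toNat + 1 ≤ (Module.length R (Dual.HD R K n)).toNat := by
        have hex := (ShortComplex.ShortExact.moduleCat_exact_iff_function_exact _).1
          (DerivedCategory.HomologySequence.exact₂ T hT n)
        haveI : Nontrivial ((DerivedCategory.homologyFunctor (ModuleCat.{u} R) n).obj k₀) :=
          (((DerivedCategory.homologyFunctorFactors (ModuleCat.{u} R) n).app _ ≪≫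
            HomologicalComplex.singleObjHomologySelfIso (ComplexShape.up ℤ) n (kMod R)).toLinearEquiv).toEquiv.nontrivial
        have hsurj : Function.Surjective ((DerivedCategory.homologyFunctor (ModuleCat.{u} R) n).map T.mor₂).hom :=
          (ModuleCat.epi_iff_surjective _).1 hq
        have hlen := Module.length_eq_add_of_exact _ _ (hinj n) hsurj hex
        have hKf := Module.length_ne_top_iff.2 (isFiniteLength_of_support (R := R) _ (hK.2 n))
        have hpos : 1 ≤ Module.length R ((DerivedCategory.homologyFunctor (ModuleCat.{u} R) n).obj k₀) :=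
          Order.one_le_iff_pos.2 Module.length_pos
        have hle' : Module.length R (Dual.HD R T.obj₁ n) + 1 ≤ Module.length R (Dual.HD R K n) :=
          (add_le_add le_rfl hpos).trans hlen.ge
        have hLf : Module.length R (Dual.HD R T.obj₁ n) ≠ ⊤ := fun ht => hKf (top_le_iff.1 (by simpa [ht] using hle'))
        have := ENat.toNat_le_toNat hle' hKf
        rwa [ENat.toNat_add hLf ENat.one_ne_top, ENat.toNat_one] at this
      have := Finset.sum_le_sum (s := Finset.Icc a b \ {n}) fun i _ => hle i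
      omega
    exact inH_obj₂ H hT (ih a b T.obj₁ hL (fun i hi => by
      haveI := hab i hi
      exact (hinj i).subsingleton (β := Dual.HD R K i)) (by omega)) hK (hk n)

theorem inH_top (hk : InH H (Dual.inD R (kMod R))) {K : Dual.D R} (hK : Supp K) : InH H K := by
  have hk' : ∀ n : ℤ, InH H ((DerivedCategory.singleFunctor (ModuleCat.{u} R) n).obj (kMod R)) := fun n =>
    inH_iso H (((DerivedCategory.singleFunctors (ModuleCat.{u} R)).shiftIso (-n) n 0 (by omega)).app (kMod R))
      (inH_shift H hk (-n))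
  obtain ⟨E, a, b, hE, -, ⟨e⟩⟩ := hK.1
  refine inH_of_window H hk' _ a b K hK (fun i hi => ?_) le_rfl
  have hz : IsZero ((DerivedCategory.homologyFunctor (ModuleCat.{u} R) i).obj (DRing.toD E)) :=
    ((HomologicalComplex.exactAt_iff_isZero_homology E i).1
      (ShortComplex.exact_of_isZero_X₂ _ (hE i hi))).of_iso
      ((DerivedCategory.homologyFunctorFactors (ModuleCat.{u} R) i).app E)
  exact ModuleCat.subsingleton_of_isZero (hz.of_iso
    ((DerivedCategory.homologyFunctor (ModuleCat.{u} R) i).mapIso e).symm)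

end K0

theorem exists_iso_koszul (fs : List R) (hreg : RingTheory.Sequence.IsRegular R fs)
    (hgen : Ideal.ofList fs = IsLocalRing.maximalIdeal R) :
    Nonempty (DRing.toD (Koszul.koszul R fs) ≅ Dual.inD R (kMod R)) := by
  let C := Koszul.koszul R fs
  let X : Dual.D R := DRing.toD C
  have hl := KoszulExt.isKoszulRegularSeq_of_isWeaklyRegular hreg.toIsWeaklyRegular
  have hH : ∀ i : ℤ, i ≠ 0 → IsZero ((DerivedCategory.homologyFunctor (ModuleCat.{u} R) i).obj X) := fun i hi =>
    (hl i hi).of_iso ((DerivedCategory.homologyFunctorFactors (ModuleCat.{u} R) i).app C)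
  haveI : X.IsLE 0 := (X.isLE_iff 0).2 fun i hi => hH i (by omega)
  haveI : X.IsGE 0 := (X.isGE_iff 0).2 fun i hi => hH i (by omega)
  obtain ⟨Y, ⟨e⟩⟩ := DerivedCategory.exists_iso_singleFunctor_obj_of_isGE_of_isLE X 0
  have h0 := KoszulExt.nonempty_homology_zero_iso fs.get
  rw [List.ofFn_get, Set.range_list_get] at h0
  obtain ⟨e0⟩ := h0
  let e1 : Y ≃ₗ[R] (R ⧸ Ideal.span {x | x ∈ fs}) := (DRingTorAmp.h0InD Y).symm.trans
    ((((DerivedCategory.homologyFunctor (ModuleCat.{u} R) 0).mapIso e).symm ≪≫
      (DerivedCategory.homologyFunctorFactors (ModuleCat.{u} R) 0).app C ≪≫ e0).toLinearEquiv)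
  exact ⟨e ≪≫ (DerivedCategory.singleFunctor (ModuleCat.{u} R) 0).mapIso
    (e1.trans (Submodule.quotEquivOfEq _ _ hgen)).toModuleIso⟩

theorem closure_eq_top (fs : List R) (hreg : RingTheory.Sequence.IsRegular R fs)
    (hgen : Ideal.ofList fs = IsLocalRing.maximalIdeal R) :
    AddSubgroup.closure {KZero.clTr Supp (DRing.toD (Koszul.koszul R fs))} = ⊤ := by
  let H := AddSubgroup.closure {KZero.clTr Supp (DRing.toD (Koszul.koszul R fs))}
  obtain ⟨e⟩ := exists_iso_koszul fs hreg hgen
  have hsupp : Supp (DRing.toD (Koszul.koszul R fs)) := supp_iso e.symm ⟨PerfHom.isPerfect_of_iso e (PerfHom.isPerfect_koszul fs), fun i => by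
    by_cases hi : i = 0
    · subst hi
      refine (Module.support_subset_of_injective (DRingTorAmp.h0InD (kMod R)).toLinearMap
        (DRingTorAmp.h0InD (kMod R)).injective).trans fun p hp => ?_
      rw [Module.support_eq_zeroLocus, Ideal.annihilator_quotient, PrimeSpectrum.mem_zeroLocus] at hp
      exact PrimeSpectrum.ext ((IsLocalRing.maximalIdeal.isMaximal R).eq_of_le p.2.ne_top hp).symm
    · haveI : Subsingleton (Dual.HD R (Dual.inD R (kMod R)) i) := ModuleCat.subsingleton_of_isZero
        ((HomologicalComplex.isZero_single_obj_homology (ComplexShape.up ℤ) 0 (kMod R) i hi).of_iso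
          ((DerivedCategory.homologyFunctorFactors (ModuleCat.{u} R) i).app _))
      rw [Module.support_eq_empty]
      exact Set.empty_subset _⟩
  have hk : InH H (Dual.inD R (kMod R)) := inH_iso H e ⟨hsupp, AddSubgroup.subset_closure rfl⟩
  rw [eq_top_iff]
  rintro x -
  clear hsupp
  induction x using QuotientAddGroup.induction_on with
  | H z =>
    induction z using FreeAbelianGroup.induction_on with
    | zero => exact H.zero_mem
    | of X =>
      have := (inH_top H hk X.2).2
      rwa [KZero.clTr, dif_pos X.2] at this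
    | neg X ih => exact H.neg_mem ih
    | add a b iha ihb => exact H.add_mem iha ihb

end Groth.Agent.KZeroLocal
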